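import Cfsg.Prelude.Def_SporadicB

set_option autoImplicit false

/-! Elementary facts about sets of 3-transpositions. -/

namespace CfsgLib.ThreeTrans

variable {G : Type*} [Group G] {E : Set G}

theorem mul_self (hE : Cfsg.IsThreeTranspositionSet E) {d : G} (hd : d ∈ E) : d * d = 1 := by
  have h := hE.1 d hd
  have := pow_orderOf_eq_one d
  rwa [h, pow_two] at this

theorem inv_eq (hE : Cfsg.IsThreeTranspositionSet E) {d : G} (hd : d ∈ E) : d⁻¹ = d :=
  inv_eq_of_mul_eq_one_left (mul_self hE hd)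

theorem ne_one (hE : Cfsg.IsThreeTranspositionSet E) {d : G} (hd : d ∈ E) : d ≠ 1 := by
  intro h
  have := hE.1 d hd
  simp [h] at this

theorem commute_iff_sq (hE : Cfsg.IsThreeTranspositionSet E) {d e : G} (hd : d ∈ E) (he : e ∈ E) :
    Commute d e ↔ (d * e) ^ 2 = 1 := by
  have h1 := inv_eq hE hd
  have h2 := inv_eq hE he
  constructor
  · intro h
    rw [h.mul_pow, pow_two, pow_two, mul_self hE hd, mul_self hE he, one_mul]
  · intro h
    rw [pow_two] at h
    have h3 := eq_inv_of_mul_eq_one_left h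
    rw [mul_inv_rev, h1, h2] at h3
    exact h3

theorem cube_eq_one (hE : Cfsg.IsThreeTranspositionSet E) {d e : G} (hd : d ∈ E) (he : e ∈ E)
    (h : ¬ Commute d e) : (d * e) ^ 3 = 1 :=
  (hE.2 d hd e he).resolve_left fun h2 => h ((commute_iff_sq hE hd he).2 h2)

theorem braid (hE : Cfsg.IsThreeTranspositionSet E) {d e : G} (hd : d ∈ E) (he : e ∈ E)
    (h : ¬ Commute d e) : d * e * d = e * d * e := by
  have h3 := cube_eq_one hE hd he h
  rw [pow_succ, pow_two] at h3
  have h4 : (d * e * d) * (e * d * e) = 1 := by rw [← h3]; simp only [mul_assoc]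
  have h5 := eq_inv_of_mul_eq_one_left h4
  rw [mul_inv_rev, mul_inv_rev, inv_eq hE hd, inv_eq hE he] at h5
  simpa only [mul_assoc] using h5

theorem conj_pair (hE : Cfsg.IsThreeTranspositionSet E) {d e : G} (hd : d ∈ E) (he : e ∈ E)
    (h : ¬ Commute d e) : (d * e) * d * (d * e)⁻¹ = e := by
  have hb := braid hE hd he h
  rw [hb, mul_inv_rev, inv_eq hE hd, inv_eq hE he]
  simp only [mul_assoc]
  rw [← mul_assoc e e d, mul_self hE he, one_mul, mul_self hE hd, mul_one]

end CfsgLib.ThreeTrans
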