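import Mathlib
import Cfsg.Prelude.Def_FischerSpaces
import Cfsg.Agent.Lib.ThreeTrans.Basic
import Cfsg.Agent.Lib.ThreeTransp.Primitive

set_option autoImplicit false

/-! Fischer's rank three lemma: in a primitive 3-transposition group the centraliser of a member of the
class is transitive on the members commuting with it and on those not commuting with it. -/

namespace CfsgLib.ThreeTrans

open Subgroup

variable {G : Type*} [Group G] {D : Set G}

theorem conj_conj_eq (g h x : G) : g * (h * x * h⁻¹) * g⁻¹ = (g * h) * x * (g * h)⁻¹ := by group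

theorem commute_conj_iff' (k a b : G) : Commute (k * a * k⁻¹) (k * b * k⁻¹) ↔ Commute a b := by
  simpa [MulAut.conj_apply] using
    commute_map_iff (MulAut.conj k).injective (a := a) (b := b)

theorem conj_self_of_commute {g x : G} (h : Commute g x) : g * x * g⁻¹ = x := by
  rw [h.eq, mul_inv_cancel_right]

/-- The members of `D` related to `z` by a conjugation fixing `p`. -/
def Rel (p z w : G) : Prop := ∃ g : G, Commute g p ∧ g * z * g⁻¹ = w

theorem Rel.refl (p z : G) : Rel p z z := ⟨1, Commute.one_left _, by simp⟩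

theorem Rel.trans {p u v w : G} : Rel p u v → Rel p v w → Rel p u w := by
  rintro ⟨g, hg, rfl⟩ ⟨h, hh, rfl⟩
  exact ⟨h * g, hh.mul_left hg, (conj_conj_eq h g u).symm⟩

theorem Rel.symm {p u v : G} : Rel p u v → Rel p v u := by
  rintro ⟨g, hg, rfl⟩
  exact ⟨g⁻¹, hg.inv_left, by group⟩

variable (hD : Cfsg.IsThreeTranspositionClass D)

include hD

/-- Non-commuting members commuting with `p` are related. -/
theorem rel_of_not_commute {p u v : G} (hu : u ∈ D) (hv : v ∈ D) (hpu : Commute p u)
    (hpv : Commute p v) (h : ¬ Commute u v) : Rel p u v :=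
  ⟨u * v, hpu.symm.mul_left hpv.symm, conj_pair hD.1 hu hv h⟩

/-- Two commuting members, neither commuting with `a`, are related. -/
theorem rel_of_commute {a c d : G} (ha : a ∈ D) (hc : c ∈ D) (hd : d ∈ D) (hac : ¬ Commute a c)
    (had : ¬ Commute a d) (hcd : Commute c d) : Rel a c d := by
  have hca : ¬ Commute c a := fun h => hac h.symm
  have hai := inv_eq hD.1 ha
  have hci := inv_eq hD.1 hc
  have hdi := inv_eq hD.1 hd
  have hcc := mul_self hD.1 hc
  have hdd := mul_self hD.1 hd
  have hdcd : d * c * d⁻¹ = c := conj_self_of_commute hcd.symm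
  have e1 : d * a * d⁻¹ = a * d * a⁻¹ := by
    rw [hai, hdi]; exact (braid hD.1 ha hd had).symm
  set e := a * c * a⁻¹ with hedef
  have heD : e ∈ D := CfsgLib.ThreeTransp.class_conj_mem hD a hc
  have he2 : c * a * c⁻¹ = e := by
    rw [hedef, hai, hci]; exact braid hD.1 hc ha hca
  -- `f` is the member centralising `a`
  set f := d * e * d⁻¹ with hfdef
  have hfD : f ∈ D := CfsgLib.ThreeTransp.class_conj_mem hD d heD
  have hed : ¬ Commute e d := by
    intro h
    have h' := (commute_conj_iff' a⁻¹ e d).2 h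
    rw [hedef, conj_conj_eq, inv_mul_cancel, one_mul, inv_one, mul_one, inv_inv,
      show a⁻¹ * d * a = a * d * a⁻¹ by rw [hai], ← e1] at h'
    rw [← hdcd, commute_conj_iff'] at h'
    exact hca h'
  have hfa : Commute f a := by
    have h1 : f = d * (c * a * c⁻¹) * d⁻¹ := by rw [he2]
    rw [conj_conj_eq] at h1
    have h3 : a * f * a⁻¹ = f := by
      have i1 : a * f * a⁻¹ = (a * d * a⁻¹) * (a * e * a⁻¹) * (a * d * a⁻¹)⁻¹ := by
        rw [hfdef]; group
      have i2 : a * e * a⁻¹ = c := by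
        have haa := mul_self hD.1 ha
        rw [hedef, conj_conj_eq, haa]; simp
      rw [i1, i2, ← e1]
      calc d * a * d⁻¹ * c * (d * a * d⁻¹)⁻¹
          = d * (a * (d⁻¹ * c * d) * a⁻¹) * d⁻¹ := by group
        _ = d * e * d⁻¹ := by rw [show d⁻¹ * c * d = d * c * d⁻¹ by rw [hdi], hdcd]
    have h4 := congrArg (fun w => w * a) h3
    simp only [inv_mul_cancel_right] at h4
    exact h4.symm
  refine ⟨f * a, hfa.mul_left (Commute.refl a), ?_⟩
  have h5 : f * a * c * (f * a)⁻¹ = f * e * f⁻¹ := by rw [hedef]; group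
  rw [h5]
  have hfi := inv_eq hD.1 hfD
  have hei := inv_eq hD.1 heD
  have hb := braid hD.1 heD hd hed
  have hee := mul_self hD.1 heD
  calc f * e * f⁻¹ = (d * e * d) * e * (d * e * d) := by rw [hfi, hfdef, hdi]
    _ = d * ((e * d * e) * (d * e * d)) := by simp only [mul_assoc]
    _ = d * ((e * d * e) * (e * d * e)) := by rw [hb]
    _ = d * (e * (d * ((e * e) * (d * e)))) := by simp only [mul_assoc]
    _ = d := by rw [hee, one_mul, ← mul_assoc d d e, hdd, one_mul, hee, mul_one]

/-- Swapping a non-commuting pair. -/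
theorem swap_pair {x y : G} (hx : x ∈ D) (hy : y ∈ D) (h : ¬ Commute x y) :
    ∃ g : G, g * x * g⁻¹ = y ∧ g * y * g⁻¹ = x := by
  have hyx : ¬ Commute y x := fun h' => h h'.symm
  have hxi := inv_eq hD.1 hx
  have hyi := inv_eq hD.1 hy
  have hb := braid hD.1 hx hy h
  have hxx := mul_self hD.1 hx
  have hyy := mul_self hD.1 hy
  refine ⟨x * y * x, ?_, ?_⟩
  · calc x * y * x * x * (x * y * x)⁻¹ = x * y * x * y⁻¹ * x⁻¹ := by group
      _ = (x * y * x) * (y * x) := by rw [hxi, hyi]; simp only [mul_assoc]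
      _ = (y * x * y) * (y * x) := by rw [hb]
      _ = y * (x * ((y * y) * x)) := by simp only [mul_assoc]
      _ = y := by rw [hyy, one_mul, hxx, mul_one]
  · rw [hb]
    calc y * x * y * y * (y * x * y)⁻¹ = y * x * y * x⁻¹ * y⁻¹ := by group
      _ = (y * x * y) * (x * y) := by rw [hxi, hyi]; simp only [mul_assoc]
      _ = (x * y * x) * (x * y) := by rw [hb]
      _ = x * (y * ((x * x) * y)) := by simp only [mul_assoc]
      _ = x := by rw [hxx, one_mul, hyy, mul_one]

variable [Finite G]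

omit hD in
/-- The members of `D` commuting with `x`. -/
def com (D : Set G) (x : G) : Set G := {e | e ∈ D ∧ Commute x e}

theorem com_conj (g x : G) : (fun e => g * e * g⁻¹) '' com D x = com D (g * x * g⁻¹) := by
  ext e
  constructor
  · rintro ⟨e, ⟨he, hc⟩, rfl⟩
    exact ⟨CfsgLib.ThreeTransp.class_conj_mem hD g he, (commute_conj_iff' g x e).2 hc⟩
  · rintro ⟨he, hc⟩
    refine ⟨g⁻¹ * e * g⁻¹⁻¹, ⟨CfsgLib.ThreeTransp.class_conj_mem hD g⁻¹ he, ?_⟩, by group⟩
    rw [← commute_conj_iff' g, conj_conj_eq, mul_inv_cancel, one_mul, inv_one, mul_one]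
    exact hc

theorem ncard_diff_conj (g x y : G) :
    (com D (g * x * g⁻¹) \ com D (g * y * g⁻¹)).ncard = (com D x \ com D y).ncard := by
  have hinj : Function.Injective fun e => g * e * g⁻¹ := fun e f h =>
    mul_left_cancel (mul_right_cancel h)
  rw [← com_conj hD, ← com_conj hD, ← Set.image_sdiff hinj, Set.ncard_image_of_injective _ hinj]

theorem ncard_inter_conj (g x y : G) :
    (com D (g * x * g⁻¹) ∩ com D (g * y * g⁻¹)).ncard = (com D x ∩ com D y).ncard := by
  have hinj : Function.Injective fun e => g * e * g⁻¹ := fun e f h =>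
    mul_left_cancel (mul_right_cancel h)
  rw [← com_conj hD, ← com_conj hD, ← Set.image_inter hinj, Set.ncard_image_of_injective _ hinj]

variable (hprim : Cfsg.IsPrimitiveUnderConj D)

include hprim

theorem closure_commute_eq_top {a c : G} (ha : a ∈ D) (hc : c ∈ D) (hac : ¬ Commute a c) :
    closure ({g : G | Commute g a} ∪ {c}) = ⊤ := by
  set M := closure ({g : G | Commute g a} ∪ {c})
  have hCM : ∀ g, Commute g a → g ∈ M := fun g h => subset_closure (Or.inl h)
  have hcM : c ∈ M := subset_closure (Or.inr rfl)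
  have key : ∀ g, (∃ m ∈ M, g * a * g⁻¹ = m * a * m⁻¹) → g ∈ M := by
    rintro g ⟨m, hm, hgm⟩
    have h1 : (m⁻¹ * g) * a * (m⁻¹ * g)⁻¹ = a := by
      rw [← conj_conj_eq, hgm]; group
    have h2 : Commute (m⁻¹ * g) a := by
      have h3 := congrArg (fun w => w * (m⁻¹ * g)) h1
      simp only [inv_mul_cancel_right] at h3
      exact h3
    simpa using mul_mem hm (hCM _ h2)
  rcases hprim.2.2 {x | ∃ m ∈ M, m * a * m⁻¹ = x}
      (by rintro _ ⟨m, -, rfl⟩; exact CfsgLib.ThreeTransp.class_conj_mem hD m ha)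
      (fun h => by
        refine or_iff_not_imp_right.2 fun hnd => ?_
        rw [Set.not_disjoint_iff] at hnd
        obtain ⟨x, ⟨_, ⟨m, hm, rfl⟩, rfl⟩, m', hm', hx⟩ := hnd
        have h1 : h * m ∈ M := key _ ⟨m', hm', by rw [← conj_conj_eq]; exact hx.symm⟩
        have hhM : h ∈ M := by simpa using mul_mem h1 (inv_mem hm)
        ext x
        constructor
        · rintro ⟨_, ⟨n, hn, rfl⟩, rfl⟩
          exact ⟨h * n, mul_mem hhM hn, (conj_conj_eq h n a).symm⟩
        · rintro ⟨n, hn, rfl⟩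
          exact ⟨h⁻¹ * n * a * (h⁻¹ * n)⁻¹, ⟨_, mul_mem (inv_mem hhM) hn, rfl⟩, by group⟩) with h | h
  · exfalso
    have h1 := h ⟨1, one_mem M, rfl⟩ ⟨c, hcM, rfl⟩
    apply hac
    have h2 : c * a * c⁻¹ = a := by rw [← h1]; group
    have h3 := congrArg (fun w => w * c) h2
    simp only [inv_mul_cancel_right] at h3
    exact h3.symm
  · rw [eq_top_iff]
    intro g _
    have hm : g * a * g⁻¹ ∈ D := CfsgLib.ThreeTransp.class_conj_mem hD g ha
    rw [← h] at hm
    obtain ⟨m, hm, hgm⟩ := hm
    exact key g ⟨m, hm, hgm.symm⟩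

/-- No member commuting with `a` commutes with a whole invariant set of members not commuting
with `a`. -/
theorem not_commute_all {a b c : G} (ha : a ∈ D) (hb : b ∈ D) (hba : b ≠ a) (hab : Commute a b)
    (hc : c ∈ D) (hac : ¬ Commute a c) (O : Set G)
    (hO : ∀ g, Commute g a → ∀ z ∈ O, g * z * g⁻¹ ∈ O) (hcO : c ∈ O)
    (hall : ∀ z ∈ O, Commute b z) : False := by
  let K : Set G := {k | k ∈ D ∧ k ≠ a ∧ Commute a k ∧ ∀ z ∈ O, Commute k z}
  let S : Subgroup G :=
    { carrier := {g | ∀ k, k ∈ K ↔ g * k * g⁻¹ ∈ K}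
      one_mem' := fun k => by simp
      mul_mem' := fun {g h} hg hh k => by rw [hh k, hg, conj_conj_eq]
      inv_mem' := fun {g} hg k => by
        rw [hg (g⁻¹ * k * g⁻¹⁻¹), conj_conj_eq, mul_inv_cancel, one_mul, inv_one, mul_one] }
  have hCS : ∀ g, Commute g a → ∀ k ∈ K, g * k * g⁻¹ ∈ K := by
    rintro g hg k ⟨hk, hka, hak, hkO⟩
    have hga : g * a * g⁻¹ = a := conj_self_of_commute hg
    refine ⟨CfsgLib.ThreeTransp.class_conj_mem hD g hk, fun e => hka ?_, ?_, fun z hz => ?_⟩
    · rw [← hga] at e; exact mul_left_cancel (mul_right_cancel e)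
    · rw [← hga]; exact (commute_conj_iff' g a k).2 hak
    · have h1 := hkO _ (hO g⁻¹ hg.inv_left z hz)
      rw [← commute_conj_iff' g, conj_conj_eq g g⁻¹, mul_inv_cancel, one_mul, inv_one, mul_one] at h1
      exact h1
  have hcS : ∀ k ∈ K, c * k * c⁻¹ ∈ K := fun k hk => by
    rw [conj_self_of_commute (hk.2.2.2 c hcO).symm]; exact hk
  have hle : closure ({g : G | Commute g a} ∪ {c}) ≤ S := by
    rw [closure_le]
    rintro g (hg | hg)
    · intro k
      refine ⟨fun hk => hCS g hg k hk, fun hk => ?_⟩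
      have h1 := hCS g⁻¹ (Commute.inv_left hg) _ hk
      rwa [conj_conj_eq, inv_mul_cancel, one_mul, inv_one, mul_one] at h1
    · rw [Set.mem_singleton_iff.1 hg]
      intro k
      refine ⟨fun hk => hcS k hk, fun hk => ?_⟩
      have h1 := hcS _ hk
      rwa [conj_conj_eq, mul_self hD.1 hc, one_mul, inv_one, mul_one] at h1
  rw [closure_commute_eq_top hD hprim ha hc hac] at hle
  obtain ⟨g, hg⟩ := hprim.1 b hb a ha
  have h1 : g * b * g⁻¹ ∈ K := (hle (mem_top g) b).1 ⟨hb, hba, hab, hall⟩
  rw [hg] at h1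
  exact h1.2.1 rfl

variable (hedge : ∃ u ∈ D, ∃ v ∈ D, u ≠ v ∧ Commute u v)

include hedge

/-- A non-empty set of members closed under commuting is everything. -/
theorem eq_of_commute_closed (P : Set G) (hPD : P ⊆ D) {p : G} (hp : p ∈ P)
    (hcl : ∀ q ∈ P, ∀ e ∈ D, Commute q e → e ∈ P) : P = D := by
  let R : G → G → Prop := fun x y => x ∈ D ∧ y ∈ D ∧ Commute x y
  let B : Set G := {x | x ∈ D ∧ Relation.ReflTransGen R p x}
  have hBP : B ⊆ P := by
    rintro x ⟨-, hx⟩
    induction hx with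
    | refl => exact hp
    | tail _ hyz ih => exact hcl _ ih _ hyz.2.1 hyz.2.2
  have hsymm : ∀ {x y}, Relation.ReflTransGen R x y → Relation.ReflTransGen R y x := by
    intro x y h
    induction h with
    | refl => exact .refl
    | tail _ hyz ih => exact .head ⟨hyz.2.1, hyz.1, hyz.2.2.symm⟩ ih
  have hmap : ∀ (g : G) {x y}, Relation.ReflTransGen R x y →
      Relation.ReflTransGen R (g * x * g⁻¹) (g * y * g⁻¹) := fun g x y h => by
    refine h.lift (fun w => g * w * g⁻¹) fun u v huv => ⟨?_, ?_, ?_⟩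
    · exact CfsgLib.ThreeTransp.class_conj_mem hD g huv.1
    · exact CfsgLib.ThreeTransp.class_conj_mem hD g huv.2.1
    · exact (commute_conj_iff' g u v).2 huv.2.2
  rcases hprim.2.2 B (fun x hx => hx.1) (fun g => by
      refine or_iff_not_imp_right.2 fun hnd => ?_
      rw [Set.not_disjoint_iff] at hnd
      obtain ⟨_, ⟨x, hx, rfl⟩, hy⟩ := hnd
      have hgp : Relation.ReflTransGen R p (g * p * g⁻¹) := hy.2.trans (hmap g (hsymm hx.2))
      ext w
      constructor
      · rintro ⟨v, hv, rfl⟩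
        exact ⟨CfsgLib.ThreeTransp.class_conj_mem hD g hv.1, hgp.trans (hmap g hv.2)⟩
      · intro hw
        refine ⟨g⁻¹ * w * g⁻¹⁻¹, ⟨CfsgLib.ThreeTransp.class_conj_mem hD g⁻¹ hw.1, ?_⟩, by group⟩
        have h2 := hmap g⁻¹ ((hsymm hgp).trans hw.2)
        rwa [conj_conj_eq, inv_mul_cancel, one_mul, inv_one, mul_one] at h2) with h | h
  · exfalso
    obtain ⟨u, hu, v, hv, huv, hc⟩ := hedge
    obtain ⟨g, hg⟩ := hprim.1 u hu p (hPD hp)
    refine huv (mul_left_cancel (mul_right_cancel (b := g⁻¹) ?_ : g * u = g * v))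
    rw [hg]
    refine h ⟨hPD hp, .refl⟩ ⟨CfsgLib.ThreeTransp.class_conj_mem hD g hv,
      .single ⟨hPD hp, CfsgLib.ThreeTransp.class_conj_mem hD g hv, ?_⟩⟩
    rw [← hg]
    exact (commute_conj_iff' g u v).2 hc
  · exact Set.Subset.antisymm hPD (h ▸ hBP)

/-- Transitivity on the members not commuting with `a`. -/
theorem rel_noncommuting {a c p : G} (ha : a ∈ D) (hc : c ∈ D) (hp : p ∈ D) (hac : ¬ Commute a c)
    (hap : ¬ Commute a p) : Rel a c p := by
  wlog hle : (com D a ∩ com D p).ncard ≤ (com D a ∩ com D c).ncard generalizing c p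
  · exact (this hp hc hap hac (le_of_not_ge hle)).symm
  by_contra hne
  have hcard : ∀ z, Rel a c z → (com D a ∩ com D z).ncard = (com D a ∩ com D c).ncard := by
    rintro z ⟨g, hg, rfl⟩
    have h1 := ncard_inter_conj hD g a c
    rwa [conj_self_of_commute hg] at h1
  have hOmem : ∀ z, Rel a c z → z ∈ D ∧ ¬ Commute a z := by
    rintro z ⟨g, hg, rfl⟩
    refine ⟨CfsgLib.ThreeTransp.class_conj_mem hD g hc, fun h => hac ?_⟩
    rw [← conj_self_of_commute hg] at h
    exact (commute_conj_iff' g a c).1 h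
  -- every orbit element shares the common neighbours of `a` and `p`
  have key : ∀ z, Rel a c z → ∀ b ∈ D, Commute a b → Commute p b → Commute z b := by
    intro z hz
    obtain ⟨hzD, haz⟩ := hOmem z hz
    have hnzp : ¬ Commute z p := fun h => hne (hz.trans (rel_of_commute hD ha hzD hp haz hap h))
    by_contra hcon
    push Not at hcon
    obtain ⟨b, hb, hab, hpb, hzb⟩ := hcon
    -- `(z, p)` is related to `(z, a)`
    have h1 : Rel z a p :=
      (rel_of_commute hD hzD ha hb (fun h => haz h.symm) hzb hab).trans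
        (rel_of_commute hD hzD hb hp hzb hnzp hpb.symm)
    -- hence common neighbours of `a` and `z` also commute with `p`
    have h2 : ∀ e ∈ D, Commute a e → Commute z e → Commute p e := by
      intro e he hae hze
      by_contra hpe
      apply hne
      have h3 : Rel p a z :=
        (rel_of_commute hD hp ha he (fun h => hap h.symm) hpe hae).trans
          (rel_of_commute hD hp he hzD hpe (fun h => hnzp h.symm) hze.symm)
      -- compose: (a, z) ~ (z, a) ~ (z, p) ~ (p, z) ~ (p, a) ~ (a, p)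
      obtain ⟨s1, s1a, s1z⟩ := swap_pair hD ha hzD haz
      obtain ⟨g1, g1z, g1a⟩ := h1
      obtain ⟨s2, s2z, s2p⟩ := swap_pair hD hzD hp hnzp
      obtain ⟨g3, g3p, g3z⟩ := h3.symm
      obtain ⟨s3, s3p, s3a⟩ := swap_pair hD hp ha (fun h => hap h.symm)
      refine hz.trans ⟨s3 * g3 * s2 * g1 * s1, ?_, ?_⟩
      · have : (s3 * g3 * s2 * g1 * s1) * a * (s3 * g3 * s2 * g1 * s1)⁻¹ = a := by
          rw [← conj_conj_eq, s1a, ← conj_conj_eq, conj_self_of_commute g1z, ← conj_conj_eq, s2z,
            ← conj_conj_eq, conj_self_of_commute g3p, s3p]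
        have h4 := congrArg (fun w => w * (s3 * g3 * s2 * g1 * s1)) this
        simp only [inv_mul_cancel_right] at h4
        exact h4
      · rw [← conj_conj_eq, s1z, ← conj_conj_eq, g1a, ← conj_conj_eq, s2p, ← conj_conj_eq, g3z, s3a]
    have hsub : com D a ∩ com D z ⊆ com D a ∩ com D p := fun e he =>
      ⟨he.1, he.1.1, h2 e he.1.1 he.1.2 he.2.2⟩
    have heq := Set.eq_of_subset_of_ncard_le hsub (by rw [hcard z hz]; exact hle) (Set.toFinite _)
    have hbmem : b ∈ com D a ∩ com D z := by rw [heq]; exact ⟨⟨hb, hab⟩, hb, hpb⟩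
    exact hzb hbmem.2.2
  -- so `p` commutes with nothing commuting with `a`
  have hempty : ∀ q, Rel a p q → ∀ b ∈ D, Commute a b → ¬ Commute q b := by
    have hbase : ∀ b ∈ D, Commute a b → ¬ Commute p b := by
      intro b hb hab hpb
      have hba : b ≠ a := fun h => hap (h ▸ hpb).symm
      exact not_commute_all hD hprim ha hb hba hab hc hac {z | Rel a c z}
        (fun g hg z hz => hz.trans ⟨g, hg, rfl⟩) (Rel.refl a c)
        (fun z hz => (key z hz b hb hab hpb).symm)
    rintro q ⟨g, hg, rfl⟩ b hb hab hqb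
    have h1 : g⁻¹ * a * g⁻¹⁻¹ = a := conj_self_of_commute hg.inv_left
    refine hbase (g⁻¹ * b * g⁻¹⁻¹) (CfsgLib.ThreeTransp.class_conj_mem hD g⁻¹ hb) ?_ ?_
    · rw [← h1]; exact (commute_conj_iff' g⁻¹ a b).2 hab
    · have h2 := (commute_conj_iff' g⁻¹ _ b).2 hqb
      rwa [conj_conj_eq g⁻¹ g p, inv_mul_cancel, one_mul, inv_one, mul_one] at h2
  have hPD : ∀ q, Rel a p q → q ∈ D ∧ ¬ Commute a q := by
    rintro q ⟨g, hg, rfl⟩
    refine ⟨CfsgLib.ThreeTransp.class_conj_mem hD g hp, fun h => hap ?_⟩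
    rw [← conj_self_of_commute hg] at h
    exact (commute_conj_iff' g a p).1 h
  have hall := eq_of_commute_closed hD hprim hedge {q | Rel a p q} (fun q hq => (hPD q hq).1)
    (Rel.refl a p) (fun q hq e he hqe => by
      obtain ⟨hqD, haq⟩ := hPD q hq
      have hae : ¬ Commute a e := fun h => hempty q hq e he h hqe
      exact hq.trans (rel_of_commute hD ha hqD he haq hae hqe))
  have haP : a ∈ {q | Rel a p q} := by rw [hall]; exact ha
  exact (hPD a haP).2 (Commute.refl a)

variable (hsame : ∀ u ∈ D, ∀ v ∈ D, CfsgLib.ThreeTransp.SameComm D u v → u = v)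

include hsame

/-- Transitivity on the members commuting with `a`. -/
theorem rel_commuting {a x y : G} (ha : a ∈ D) (hx : x ∈ D) (hy : y ∈ D) (hxa : x ≠ a) (hya : y ≠ a)
    (hax : Commute a x) (hay : Commute a y) : Rel a x y := by
  wlog hle : (com D y \ com D a).ncard ≤ (com D x \ com D a).ncard generalizing x y
  · exact (this hy hx hya hxa hay hax (le_of_not_ge hle)).symm
  by_contra hne
  have hbal : ∀ u ∈ D, (com D u \ com D a).ncard = (com D a \ com D u).ncard := by
    intro u hu
    obtain ⟨g, rfl⟩ := CfsgLib.ThreeTransp.class_conj hD ha hu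
    have hinj : Function.Injective fun e => g * e * g⁻¹ := fun e f h =>
      mul_left_cancel (mul_right_cancel h)
    have h1 : (com D (g * a * g⁻¹)).ncard = (com D a).ncard := by
      rw [← com_conj hD, Set.ncard_image_of_injective _ hinj]
    have h2 := Set.ncard_inter_add_ncard_sdiff_eq_ncard (com D (g * a * g⁻¹)) (com D a)
    have h3 := Set.ncard_inter_add_ncard_sdiff_eq_ncard (com D a) (com D (g * a * g⁻¹))
    rw [Set.inter_comm] at h3
    omega
  obtain ⟨z, hzD, hyz, haz⟩ : ∃ z ∈ D, Commute y z ∧ ¬ Commute a z := by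
    by_contra hcon
    push Not at hcon
    have hW : com D y \ com D a = ∅ := Set.eq_empty_of_forall_notMem fun e he =>
      he.2 ⟨he.1.1, hcon e he.1.1 he.1.2⟩
    have h1 := hbal y hy
    rw [hW, Set.ncard_empty, eq_comm, Set.ncard_eq_zero] at h1
    exact hya (hsame a ha y hy fun e he => ⟨fun h => hcon e he h, fun h => by
      by_contra h'
      exact Set.eq_empty_iff_forall_notMem.1 h1 e ⟨⟨he, h⟩, fun h'' => h' h''.2⟩⟩).symm
  have hXmem : ∀ u, Rel a x u → u ∈ D ∧ u ≠ a ∧ Commute a u := by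
    rintro u ⟨g, hg, rfl⟩
    refine ⟨CfsgLib.ThreeTransp.class_conj_mem hD g hx, fun h => hxa ?_, ?_⟩
    · conv_rhs at h => rw [← conj_self_of_commute hg]
      exact mul_left_cancel (mul_right_cancel h)
    · rw [← conj_self_of_commute hg]; exact (commute_conj_iff' g a x).2 hax
  have key : ∀ u, Rel a x u → com D y \ com D a ⊆ com D u \ com D a := by
    intro u hu
    obtain ⟨huD, hua, hau⟩ := hXmem u hu
    have hsize : (com D u \ com D a).ncard = (com D x \ com D a).ncard := by
      obtain ⟨g, hg, rfl⟩ := hu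
      have h1 := ncard_diff_conj hD g x a
      rwa [conj_self_of_commute hg] at h1
    by_cases hW : com D u \ com D a ⊆ com D y \ com D a
    · exact (Set.eq_of_subset_of_ncard_le hW (by rw [hsize]; exact hle) (Set.toFinite _)).ge
    obtain ⟨e, ⟨⟨he, hue⟩, hea⟩, hey⟩ := Set.not_subset.1 hW
    have hae : ¬ Commute a e := fun h => hea ⟨he, h⟩
    have hye : ¬ Commute y e := fun h => hey ⟨⟨he, h⟩, hea⟩
    have huy : Commute u y := by
      by_contra h
      exact hne (hu.trans (rel_of_not_commute hD huD hy hau hay h))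
    -- `y` is conjugate to `a` under the centraliser of `u`
    obtain ⟨g, hgu, hgy⟩ : Rel u a y :=
      (rel_of_not_commute hD ha he hau.symm hue hae).trans
        (rel_of_not_commute hD he hy hue huy fun h => hye h.symm)
    have hsub : com D a \ com D u ⊆ com D y \ com D u := by
      rintro f ⟨⟨hf, haf⟩, hfu⟩
      refine ⟨⟨hf, ?_⟩, hfu⟩
      have huf : ¬ Commute u f := fun h => hfu ⟨hf, h⟩
      by_contra hyf
      exact hne (hu.trans ((rel_of_not_commute hD huD hf hau haf huf).trans
        (rel_of_not_commute hD hf hy haf hay fun h => hyf h.symm)))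
    have hcard : (com D y \ com D u).ncard = (com D a \ com D u).ncard := by
      have h1 := ncard_diff_conj hD g a u
      rwa [hgy, conj_self_of_commute hgu] at h1
    have heq := Set.eq_of_subset_of_ncard_le hsub hcard.le (Set.toFinite _)
    rintro f ⟨hf, hfa⟩
    refine ⟨?_, hfa⟩
    by_contra hfu
    have : f ∈ com D a \ com D u := by rw [heq]; exact ⟨hf, hfu⟩
    exact hfa this.1
  have hzmem : z ∈ com D y \ com D a := ⟨⟨hzD, hyz⟩, fun h => haz h.2⟩
  refine not_commute_all hD hprim ha hx hxa hax hzD haz {w | w ∈ D ∧ ¬ Commute a w}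
    (fun g hg w hw => ⟨CfsgLib.ThreeTransp.class_conj_mem hD g hw.1, fun h => hw.2 ?_⟩) ⟨hzD, haz⟩
    (fun w hw => ?_)
  · rw [← conj_self_of_commute hg] at h
    exact (commute_conj_iff' g a w).1 h
  · obtain ⟨g, hg, rfl⟩ := rel_noncommuting hD hprim hedge ha hzD hw.1 haz hw.2
    have h1 := (key (g⁻¹ * x * g⁻¹⁻¹) ⟨g⁻¹, hg.inv_left, rfl⟩ hzmem).1.2
    rw [← commute_conj_iff' g, conj_conj_eq, mul_inv_cancel, one_mul, inv_one, mul_one] at h1
    exact h1

end CfsgLib.ThreeTrans
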