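import Mathlib
import Cfsg.Agent.Lib.ThreeTrans.RankThree
import Cfsg.Agent.Lib.ThreeTransp.SimpleDerived
import Cfsg.Agent.Lib.ThreeTransp.WidthOne

set_option autoImplicit false

/-! Fischer's setting: a class of 3-transpositions in a group without solvable normal subgroup and with
perfect derived group. The class is primitive, the members commuting with one member form a single class
of the group they generate, and maximal commuting sets have doubly transitive normalisers. -/

namespace CfsgLib.ThreeTrans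

open Subgroup

variable {G : Type*} [Group G]

/-- A perfect subgroup inside a solvable subgroup is trivial. -/
theorem eq_bot_of_perfect_le_solvable {H P : Subgroup G} (hP : Group.IsSolvable ↥P) (hle : H ≤ P)
    (hH : ⁅H, H⁆ = H) : H = ⊥ := by
  obtain ⟨n, hn⟩ := hP.solvable
  have key : ∀ k, H ≤ (derivedSeries ↥P k).map P.subtype := by
    intro k
    induction k with
    | zero => rwa [derivedSeries_zero, ← MonoidHom.range_eq_map, range_subtype]
    | succ k ih =>
      rw [derivedSeries_succ, map_commutator]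
      exact hH.symm.le.trans (commutator_mono ih ih)
  have h := key n
  rwa [hn, Subgroup.map_bot, le_bot_iff] at h

section setting

variable [Finite G] {D : Set G}
  (hsol : ∀ N : Subgroup G, N.Normal → Group.IsSolvable ↥N → N = ⊥)
  (hperf : ⁅commutator G, commutator G⁆ = commutator G) (hD : Cfsg.IsThreeTranspositionClass D)

include hsol

omit [Finite G] in
theorem center_eq_bot : center G = ⊥ :=
  hsol _ inferInstance
    (Group.isSolvable_of_comm fun a b => Subtype.ext (mem_center_iff.1 b.2 a))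

theorem pCore_eq_bot {p : ℕ} (hp : p.Prime) : Cfsg.pCore p G = ⊥ := by
  have := Fact.mk hp
  refine hsol _ inferInstance ?_
  have := (CfsgLib.LargeXS.pCore_isPGroup p G).isNilpotent
  infer_instance

theorem pCore_le_center {p : ℕ} (hp : p.Prime) : Cfsg.pCore p G ≤ center G :=
  (pCore_eq_bot hsol hp).le.trans bot_le

include hD

omit [Finite G] in
theorem exists_two_members : ∃ a ∈ D, ∃ b ∈ D, a ≠ b := by
  obtain ⟨d, hd, -⟩ := hD.2.1
  by_contra! h
  have htop : closure ({d} : Set G) = ⊤ := by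
    refine top_le_iff.1 (hD.2.2 ▸ closure_mono fun e he => ?_)
    exact h e he d hd
  have hcom : ∀ a b : G, a * b = b * a := fun a b => by
    obtain ⟨i, rfl⟩ := mem_closure_singleton.1 (htop ▸ mem_top a : a ∈ closure ({d} : Set G))
    obtain ⟨j, rfl⟩ := mem_closure_singleton.1 (htop ▸ mem_top b : b ∈ closure ({d} : Set G))
    exact ((Commute.refl d).zpow_zpow i j).eq
  have hbot := hsol ⊤ inferInstance
    (Group.isSolvable_of_comm fun a b => Subtype.ext (hcom a b))
  have hdb : d ∈ (⊥ : Subgroup G) := hbot ▸ mem_top d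
  exact ne_one hD.1 hd (mem_bot.1 hdb)

theorem eq_of_sameComm : ∀ u ∈ D, ∀ v ∈ D, CfsgLib.ThreeTransp.SameComm D u v → u = v := by
  intro u hu v hv h
  obtain ⟨hset, hconj, -⟩ := CfsgLib.ThreeTransp.class_to_group hD
  have h1 := CfsgLib.ThreeTransp.mul_mem_of_sameComm hset hconj hu hv h
  rw [pCore_eq_bot hsol Nat.prime_two, mem_bot] at h1
  exact (eq_inv_of_mul_eq_one_left h1).trans (inv_eq hD.1 hv)

include hperf

theorem index_layer_le_two : (Cfsg.layer G).index ≤ 2 := by
  obtain ⟨hset, hconj, hgen⟩ := CfsgLib.ThreeTransp.class_to_group hD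
  have hD2 := exists_two_members hsol hD
  have h2 := pCore_le_center hsol Nat.prime_two
  have h3 := pCore_le_center hsol Nat.prime_three
  obtain ⟨hn, hq, hF⟩ := CfsgLib.ThreeTransp.layer_component hD hD2 h2 h3
  set L := Cfsg.layer G
  obtain ⟨d, hd, -⟩ := hD.2.1
  suffices hle : commutator G ≤ L by
    refine le_trans ?_ (CfsgLib.ThreeTransp.index_commutator_le_two hD)
    exact Nat.le_of_dvd (Nat.pos_of_ne_zero index_ne_zero_of_finite) (index_dvd_of_le hle)
  by_cases hdL : d ∈ L
  · refine le_top.trans (hgen.symm.le.trans ((closure_le _).2 fun e he => ?_))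
    obtain ⟨g, rfl⟩ := CfsgLib.ThreeTransp.class_conj hD hd he
    exact hn.conj_mem d hdL g
  set π := QuotientGroup.mk' L with hπ
  have hsq : ∀ e ∈ D, π e * π e = 1 := fun e he => by rw [← map_mul, mul_self hset he, map_one]
  have hord : ∀ q ∈ π '' D, orderOf q = 2 := by
    rintro _ ⟨e, he, rfl⟩
    refine orderOf_eq_prime (by rw [pow_two, hsq e he]) fun h1 => hdL ?_
    obtain ⟨g, rfl⟩ := CfsgLib.ThreeTransp.class_conj hD he hd
    exact hn.conj_mem e ((QuotientGroup.eq_one_iff e).1 h1) g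
  have hinv : ∀ k : G ⧸ L, ∀ q ∈ π '' D, k * q * k⁻¹ ∈ π '' D := by
    rintro k _ ⟨e, he, rfl⟩
    obtain ⟨g, rfl⟩ := QuotientGroup.mk'_surjective L k
    exact ⟨g * e * g⁻¹, hconj g e he, by simp [hπ]⟩
  have hw : ∀ q ∈ π '' D, ∀ r ∈ π '' D, (q * r) ^ 3 = 1 := by
    rintro _ ⟨a, ha, rfl⟩ _ ⟨b, hb, rfl⟩
    by_cases hc : Commute a b
    · have hm : a * b * a⁻¹ * b⁻¹ ∈ L := by
        rw [hc.eq, mul_inv_cancel_right, mul_inv_cancel]; exact one_mem L
      have h1 := CfsgLib.ThreeTransp.mul_mem_of_commutatorElement_mem hD hD2 h2 h3 hq hF ha hb hm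
      rw [inv_eq hset ha] at h1
      rw [← map_mul, show π (a * b) = 1 from (QuotientGroup.eq_one_iff _).2 h1, one_pow]
    · rw [← map_mul, ← map_pow, cube_eq_one hset ha hb hc, map_one]
  set P := Cfsg.pCore 3 (G ⧸ L)
  have : Fact (Nat.Prime 3) := ⟨Nat.prime_three⟩
  have hsolP : Group.IsSolvable ↥P := by
    have := (CfsgLib.LargeXS.pCore_isPGroup 3 (G ⧸ L)).isNilpotent
    infer_instance
  set ρ := (QuotientGroup.mk' P).comp π with hρ
  have heq : ∀ e ∈ D, ρ e = ρ d := by
    intro e he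
    have h1 : π d * π e ∈ P := CfsgLib.ThreeTransp.mul_mem_pCore_three hord hinv hw
      (Set.mem_image_of_mem _ hd) (Set.mem_image_of_mem _ he)
    have h4 : ρ d * ρ e = 1 := by
      rw [← map_mul]
      refine (QuotientGroup.eq_one_iff (π (d * e))).2 ?_
      rw [map_mul]
      exact h1
    have h5 : ρ d * ρ d = 1 := by rw [← map_mul, mul_self hset hd, map_one]
    exact mul_left_cancel (h4.trans h5.symm)
  have hcyc : (⊤ : Subgroup G) ≤ (zpowers (ρ d)).comap ρ := by
    rw [← hgen, closure_le]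
    intro e he
    show ρ e ∈ zpowers (ρ d)
    rw [heq e he]
    exact mem_zpowers _
  have hker : commutator G ≤ ρ.ker := by
    rw [commutator_def]
    refine commutator_le.2 fun a _ b _ => ?_
    rw [MonoidHom.mem_ker, map_commutatorElement, commutatorElement_eq_one_iff_commute]
    obtain ⟨i, hi⟩ := (hcyc (mem_top a) : ρ a ∈ zpowers (ρ d))
    obtain ⟨j, hj⟩ := (hcyc (mem_top b) : ρ b ∈ zpowers (ρ d))
    rw [← hi, ← hj]
    exact (Commute.refl (ρ d)).zpow_zpow i j
  have himg : (commutator G).map π = ⊥ := by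
    refine eq_bot_of_perfect_le_solvable hsolP ?_ ?_
    · rintro _ ⟨c, hc, rfl⟩
      exact (QuotientGroup.eq_one_iff (π c)).1 (hker hc)
    · rw [← map_commutator, hperf]
  intro c hc
  have h6 : π c ∈ (commutator G).map π := ⟨c, hc, rfl⟩
  rw [himg, mem_bot] at h6
  exact (QuotientGroup.eq_one_iff c).1 h6

/-- In Fischer's setting the class is primitive. -/
theorem isPrimitive_of_fischer : Cfsg.IsPrimitiveUnderConj D := by
  have hD2 := exists_two_members hsol hD
  have h2 := pCore_le_center hsol Nat.prime_two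
  have h3 := pCore_le_center hsol Nat.prime_three
  obtain ⟨hn, hq, hF⟩ := CfsgLib.ThreeTransp.layer_component hD hD2 h2 h3
  exact CfsgLib.ThreeTransp.isPrimitive_of_index_le_two hD hD2 h2 h3 hq hF
    (index_layer_le_two hsol hperf hD)

end setting

/-- The members of `D` other than `p` commuting with `p`. -/
def link (D : Set G) (p : G) : Set G := {e | e ∈ D ∧ e ≠ p ∧ Commute p e}

/-- The class of `b` under the group generated by the link of `p`. -/
def linkClass (D : Set G) (p b : G) : Set G :=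
  {c | ∃ k ∈ closure (link D p), k * b * k⁻¹ = c}

theorem mem_linkClass_self (D : Set G) (p b : G) : b ∈ linkClass D p b :=
  ⟨1, one_mem _, by simp⟩

theorem mem_linkClass_trans {D : Set G} {p a b c : G} :
    b ∈ linkClass D p a → c ∈ linkClass D p b → c ∈ linkClass D p a := by
  rintro ⟨k, hk, rfl⟩ ⟨l, hl, rfl⟩
  exact ⟨l * k, mul_mem hl hk, (conj_conj_eq l k a).symm⟩

theorem mem_linkClass_symm {D : Set G} {p a b : G} :
    b ∈ linkClass D p a → a ∈ linkClass D p b := by
  rintro ⟨k, hk, rfl⟩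
  exact ⟨k⁻¹, inv_mem hk, by group⟩

variable {D : Set G} (hD : Cfsg.IsThreeTranspositionClass D)

include hD

theorem link_conj (g p : G) : (fun e => g * e * g⁻¹) '' link D p = link D (g * p * g⁻¹) := by
  ext e
  constructor
  · rintro ⟨e, ⟨he, hne, hc⟩, rfl⟩
    exact ⟨CfsgLib.ThreeTransp.class_conj_mem hD g he,
      fun h => hne (mul_left_cancel (mul_right_cancel h)), (commute_conj_iff' g p e).2 hc⟩
  · rintro ⟨he, hne, hc⟩
    refine ⟨g⁻¹ * e * g⁻¹⁻¹, ⟨CfsgLib.ThreeTransp.class_conj_mem hD g⁻¹ he, fun h => hne ?_, ?_⟩,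
      by group⟩
    · rw [← h]; group
    · rw [← commute_conj_iff' g, conj_conj_eq, mul_inv_cancel, one_mul, inv_one, mul_one]
      exact hc

theorem linkClass_conj_subset (g p b : G) :
    (fun e => g * e * g⁻¹) '' linkClass D p b ⊆ linkClass D (g * p * g⁻¹) (g * b * g⁻¹) := by
  rintro _ ⟨_, ⟨k, hk, rfl⟩, rfl⟩
  refine ⟨g * k * g⁻¹, ?_, by group⟩
  have h1 : g * k * g⁻¹ ∈ (closure (link D p)).map (MulAut.conj g).toMonoidHom := ⟨k, hk, rfl⟩
  rw [MonoidHom.map_closure] at h1
  refine closure_mono ?_ h1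
  rw [← link_conj hD g p]
  exact (Set.image_congr fun e _ => rfl).subset

theorem linkClass_subset_link {p b : G} (hb : b ∈ link D p) : linkClass D p b ⊆ link D p := by
  rintro _ ⟨k, hk, rfl⟩
  have hkp : Commute k p := by
    have hle : closure (link D p) ≤ centralizer {p} :=
      (closure_le _).2 fun e he => mem_centralizer_singleton_iff.2 he.2.2.eq.symm
    exact mem_centralizer_singleton_iff.1 (hle hk)
  have h1 : k * b * k⁻¹ ∈ (fun e => k * e * k⁻¹) '' link D p := ⟨b, hb, rfl⟩
  rwa [link_conj hD, conj_self_of_commute hkp] at h1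

/-- Non-commuting members of a link lie in one class. -/
theorem mem_linkClass_of_not_commute {p u v : G} (hu : u ∈ link D p) (hv : v ∈ link D p)
    (h : ¬ Commute u v) : v ∈ linkClass D p u :=
  ⟨u * v, mul_mem (subset_closure hu) (subset_closure hv), conj_pair hD.1 hu.1 hv.1 h⟩

theorem commute_of_not_mem_linkClass {p b c e : G} (hb : b ∈ link D p) (hc : c ∈ linkClass D p b)
    (he : e ∈ link D p) (hne : e ∉ linkClass D p b) : Commute c e := by
  by_contra h
  exact hne (mem_linkClass_trans hc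
    (mem_linkClass_of_not_commute hD (linkClass_subset_link hD hb hc) he h))

/-- A class is already the orbit of the group it generates. -/
theorem exists_conj_mem_closure_linkClass {p b c : G} (hb : b ∈ link D p)
    (hc : c ∈ linkClass D p b) :
    ∃ k ∈ closure (linkClass D p b), k * b * k⁻¹ = c := by
  have key : ∀ k ∈ closure (link D p), ∀ u ∈ linkClass D p b,
      ∃ k' ∈ closure (linkClass D p b), k' * u * k'⁻¹ = k * u * k⁻¹ := by
    intro k hk
    induction hk using closure_induction'' with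
    | mem y hy =>
      intro u hu
      by_cases hyO : y ∈ linkClass D p b
      · exact ⟨y, subset_closure hyO, rfl⟩
      · exact ⟨1, one_mem _, by
          rw [conj_self_of_commute (commute_of_not_mem_linkClass hD hb hu hy hyO).symm]; simp⟩
    | inv_mem y hy =>
      intro u hu
      rw [inv_eq hD.1 hy.1]
      by_cases hyO : y ∈ linkClass D p b
      · exact ⟨y, subset_closure hyO, rfl⟩
      · exact ⟨1, one_mem _, by
          rw [conj_self_of_commute (commute_of_not_mem_linkClass hD hb hu hy hyO).symm]; simp⟩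
    | one => intro u _; exact ⟨1, one_mem _, rfl⟩
    | mul m n hm hn ihm ihn =>
      intro u hu
      obtain ⟨n', hn', hn''⟩ := ihn u hu
      obtain ⟨m', hm', hm''⟩ := ihm (n * u * n⁻¹) (mem_linkClass_trans hu ⟨n, hn, rfl⟩)
      exact ⟨m' * n', mul_mem hm' hn', by rw [← conj_conj_eq, hn'', hm'', conj_conj_eq]⟩
  obtain ⟨k, hk, rfl⟩ := hc
  exact key k hk b (mem_linkClass_self D p b)

variable [Finite G] (hprim : Cfsg.IsPrimitiveUnderConj D)
  (hedge : ∃ u ∈ D, ∃ v ∈ D, u ≠ v ∧ Commute u v)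
  (hsame : ∀ u ∈ D, ∀ v ∈ D, CfsgLib.ThreeTransp.SameComm D u v → u = v)

include hprim hedge hsame

/-- Commuting pairs of distinct members are all conjugate. -/
theorem exists_conj_pair {a b c d : G} (ha : a ∈ D) (hb : b ∈ link D a) (hc : c ∈ D)
    (hd : d ∈ link D c) : ∃ g : G, g * a * g⁻¹ = c ∧ g * b * g⁻¹ = d := by
  obtain ⟨h, hh⟩ := CfsgLib.ThreeTransp.class_conj hD ha hc
  have h1 : h * b * h⁻¹ ∈ link D c := by
    rw [← hh, ← link_conj hD]; exact ⟨b, hb, rfl⟩
  obtain ⟨k, hk, hk'⟩ :=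
    rel_commuting hD hprim hedge hsame hc h1.1 hd.1 h1.2.1 hd.2.1 h1.2.2 hd.2.2
  exact ⟨k * h, by rw [← conj_conj_eq, hh, conj_self_of_commute hk], by rw [← conj_conj_eq, hk']⟩

theorem ncard_linkClass_eq {a b c d : G} (ha : a ∈ D) (hb : b ∈ link D a) (hc : c ∈ D)
    (hd : d ∈ link D c) : (linkClass D a b).ncard = (linkClass D c d).ncard := by
  wlog h : (linkClass D c d).ncard ≤ (linkClass D a b).ncard generalizing a b c d
  · exact (this hc hd ha hb (le_of_not_ge h)).symm
  refine le_antisymm ?_ h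
  obtain ⟨g, hga, hgb⟩ := exists_conj_pair hD hprim hedge hsame ha hb hc hd
  have h1 := linkClass_conj_subset hD g a b
  rw [hga, hgb] at h1
  have h2 := Set.ncard_le_ncard h1 (Set.toFinite _)
  rwa [Set.ncard_image_of_injective _ fun e f h => mul_left_cancel (mul_right_cancel h)] at h2

/-- A class of a link is a class of the link of every member of the link outside it. -/
theorem linkClass_transfer {p a b : G} (hp : p ∈ D) (hb : b ∈ link D p) (ha : a ∈ link D p)
    (hab : a ∉ linkClass D p b) :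
    b ∈ link D a ∧ linkClass D a b = linkClass D p b := by
  have hsub : linkClass D p b ⊆ link D a := fun c hc =>
    ⟨(linkClass_subset_link hD hb hc).1, fun h => hab (h ▸ hc),
      (commute_of_not_mem_linkClass hD hb hc ha hab).symm⟩
  have hba := hsub (mem_linkClass_self D p b)
  refine ⟨hba, (Set.eq_of_subset_of_ncard_le (fun c hc => ?_) ?_ (Set.toFinite _)).symm⟩
  · obtain ⟨k, hk, hk'⟩ := exists_conj_mem_closure_linkClass hD hb hc
    exact ⟨k, closure_mono hsub hk, hk'⟩
  · exact (ncard_linkClass_eq hD hprim hedge hsame ha.1 hba hp hb).le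

/-- Fischer: the link of a member is a single class of the group it generates. -/
theorem link_single_class {x : G} (hx : x ∈ D) {y y' : G} (hy : y ∈ link D x)
    (hy' : y' ∈ link D x) : y' ∈ linkClass D x y := by
  by_contra hne
  set O := linkClass D x y' with hO
  have hyO : y ∉ O := fun h => hne (mem_linkClass_symm h)
  have hxO : x ∉ O := fun h => (linkClass_subset_link hD hy' h).2.1 rfl
  let R : Set G := {q | q ∈ D ∧ y' ∈ link D q ∧ linkClass D q y' = O}
  have hxR : x ∈ R := ⟨hx, hy', rfl⟩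
  have hRstep : ∀ q ∈ R, ∀ f ∈ D, Commute q f → f ∈ R ∪ O := by
    rintro q ⟨hq, hyq, hcl⟩ f hf hqf
    by_cases hfq : f = q
    · exact Or.inl (hfq ▸ ⟨hq, hyq, hcl⟩)
    by_cases hfO : f ∈ O
    · exact Or.inr hfO
    obtain ⟨h1, h2⟩ := linkClass_transfer hD hprim hedge hsame hq hyq
      (show f ∈ link D q from ⟨hf, hfq, hqf⟩) (by rwa [hcl])
    exact Or.inl ⟨hf, h1, h2.trans hcl⟩
  have hyR : y ∈ R := by
    obtain ⟨h1, h2⟩ := linkClass_transfer hD hprim hedge hsame hx hy' hy hyO
    exact ⟨hy.1, h1, h2⟩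
  have hOstep : ∀ e ∈ O, ∀ f ∈ D, Commute e f → f ∈ R ∪ O := by
    intro e heO f hf hef
    have he := linkClass_subset_link hD hy' heO
    by_cases hxf : Commute x f
    · exact hRstep x hxR f hf hxf
    have hfe : f ≠ e := fun h => hxf (h ▸ he.2.2)
    have hxe : x ∈ link D e := ⟨hx, he.2.1.symm, he.2.2.symm⟩
    have hfl : f ∈ link D e := ⟨hf, hfe, hef⟩
    have heO1 : e ∉ linkClass D x y := fun h =>
      hne (mem_linkClass_trans h (mem_linkClass_symm heO))
    obtain ⟨hye, hcl⟩ := linkClass_transfer hD hprim hedge hsame hx hy he heO1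
    have hfy : f ∉ linkClass D e y := by
      intro h
      have h1 : x ∈ linkClass D e y :=
        mem_linkClass_trans h (mem_linkClass_of_not_commute hD hfl hxe fun h' => hxf h'.symm)
      rw [hcl] at h1
      exact (linkClass_subset_link hD hy h1).2.1 rfl
    exact hRstep y hyR f hf
      (commute_of_not_mem_linkClass hD hye (mem_linkClass_self D e y) hfl hfy)
  have hall : R ∪ O = D := by
    refine eq_of_commute_closed hD hprim hedge (R ∪ O) ?_ (Or.inl hxR) ?_
    · exact Set.union_subset (fun q hq => hq.1) fun e he => (linkClass_subset_link hD hy' he).1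
    · rintro q (hq | hq) f hf hqf
      exacts [hRstep q hq f hf hqf, hOstep q hq f hf hqf]
  have hfix : ∀ e ∈ D, ∀ c ∈ O, e * c * e⁻¹ ∈ O := by
    intro e he c hc
    rw [← hall] at he
    rcases he with ⟨-, hyq, hcl⟩ | heO
    · have h1 : c ∈ link D e := linkClass_subset_link hD hyq (by rwa [hcl])
      rwa [conj_self_of_commute h1.2.2]
    · exact mem_linkClass_trans hc ⟨e, subset_closure (linkClass_subset_link hD hy' heO), rfl⟩
  obtain ⟨g, hg⟩ := CfsgLib.ThreeTransp.class_conj hD hy'.1 hx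
  have key : ∀ g ∈ closure D, ∀ c ∈ O, g * c * g⁻¹ ∈ O := by
    intro g hg
    induction hg using closure_induction'' with
    | mem e he => exact hfix e he
    | inv_mem e he => rw [inv_eq hD.1 he]; exact hfix e he
    | one => intro c hc; simpa using hc
    | mul m n _ _ ihm ihn => intro c hc; rw [← conj_conj_eq]; exact ihm _ (ihn c hc)
  exact hxO (hg ▸ key g (hD.2.2 ▸ mem_top g) y' (mem_linkClass_self D x y'))

omit [Finite G] hprim hedge hsame in
/-- The members of `D` in a 2-subgroup commute. -/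
theorem commute_of_mem_two_group {P : Subgroup G} (hP : IsPGroup 2 P) {a b : G} (ha : a ∈ D)
    (hb : b ∈ D) (haP : a ∈ P) (hbP : b ∈ P) : Commute a b := by
  by_contra h
  obtain ⟨k, hk⟩ := hP ⟨a * b, mul_mem haP hbP⟩
  have h2 : orderOf (a * b) ∣ 2 ^ k :=
    orderOf_dvd_of_pow_eq_one (by simpa using congrArg Subtype.val hk)
  have h3 : orderOf (a * b) ∣ 3 := orderOf_dvd_of_pow_eq_one (cube_eq_one hD.1 ha hb h)
  have h1 : orderOf (a * b) = 1 :=
    Nat.eq_one_of_dvd_coprimes (Nat.Coprime.pow_left k (by norm_num : Nat.Coprime 2 3)) h2 h3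
  rw [orderOf_eq_one_iff] at h1
  exact h (by rw [(eq_inv_of_mul_eq_one_left h1).trans (inv_eq hD.1 hb)])

omit hprim hedge hsame in
/-- A 2-subgroup containing a commuting set of maximum size meets `D` in that set. -/
theorem inter_eq_of_max {E : Set G} (hE : E ⊆ D)
    (hmax : ∀ E' : Set G, E' ⊆ D → (∀ a ∈ E', ∀ b ∈ E', Commute a b) → E'.ncard ≤ E.ncard)
    {P : Subgroup G} (hP : IsPGroup 2 P) (hEP : E ⊆ (P : Set G)) : D ∩ (P : Set G) = E :=
  (Set.eq_of_subset_of_ncard_le
    (show E ⊆ D ∩ (P : Set G) from fun _ he => ⟨hE he, hEP he⟩)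
    (hmax _ Set.inter_subset_left fun _ ha _ hb =>
      commute_of_mem_two_group hD hP ha.1 hb.1 ha.2 hb.2) (Set.toFinite _)).symm

omit [Finite G] hprim hedge hsame in
theorem isPGroup_closure_commuting {E : Set G} (hE : E ⊆ D)
    (hc : ∀ a ∈ E, ∀ b ∈ E, Commute a b) : IsPGroup 2 (closure E) :=
  CfsgLib.ThreeTransp.isPGroup_closure_of_commute hc fun x hx => by
    rw [pow_two]; exact mul_self hD.1 (hE hx)

omit hprim hedge hsame in
theorem exists_sylow_le_normalizer {E : Set G} (hE : E ⊆ D)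
    (hc : ∀ a ∈ E, ∀ b ∈ E, Commute a b)
    (hmax : ∀ E' : Set G, E' ⊆ D → (∀ a ∈ E', ∀ b ∈ E', Commute a b) → E'.ncard ≤ E.ncard) :
    ∃ P : Sylow 2 G, (P : Subgroup G) ≤ Subgroup.normalizer E := by
  obtain ⟨P, hP⟩ := (isPGroup_closure_commuting hD hE hc).exists_le_sylow
  refine ⟨P, le_set_normalizer_iff.2 fun k hk e he => ?_⟩
  have heq := inter_eq_of_max hD hE hmax P.isPGroup' (fun e he => hP (subset_closure he))
  rw [← heq] at he ⊢
  exact ⟨CfsgLib.ThreeTransp.class_conj_mem hD k he.1, mul_mem (mul_mem hk he.2) (inv_mem hk)⟩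

/-- The normaliser of a commuting set of maximum size is doubly transitive on it. -/
theorem exists_normalizer_conj_pair {E : Set G} (hE : E ⊆ D)
    (hc : ∀ a ∈ E, ∀ b ∈ E, Commute a b)
    (hmax : ∀ E' : Set G, E' ⊆ D → (∀ a ∈ E', ∀ b ∈ E', Commute a b) → E'.ncard ≤ E.ncard)
    {a b c d : G} (ha : a ∈ E) (hb : b ∈ E) (hc' : c ∈ E) (hd : d ∈ E) (hab : a ≠ b) (hcd : c ≠ d) :
    ∃ g ∈ Subgroup.normalizer E, g * a * g⁻¹ = c ∧ g * b * g⁻¹ = d := by
  have : Fact (Nat.Prime 2) := ⟨Nat.prime_two⟩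
  obtain ⟨g, hga, hgb⟩ := exists_conj_pair hD hprim hedge hsame (hE ha)
    (show b ∈ link D a from ⟨hE hb, hab.symm, hc a ha b hb⟩) (hE hc')
    (show d ∈ link D c from ⟨hE hd, hcd.symm, hc c hc' d hd⟩)
  set E' := (fun e => g * e * g⁻¹) '' E with hE'
  set C := centralizer ({c, d} : Set G) with hC
  have hEC : closure E ≤ C := (closure_le _).2 fun e he => mem_centralizer_iff.2 (by
    rintro z (rfl | rfl)
    exacts [hc _ hc' e he, hc _ hd e he])
  have hE'C : closure E' ≤ C := (closure_le _).2 (by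
    rintro _ ⟨e, he, rfl⟩
    refine mem_centralizer_iff.2 ?_
    rintro z (rfl | rfl)
    · rw [← hga]; exact (commute_conj_iff' g a e).2 (hc a ha e he)
    · rw [← hgb]; exact (commute_conj_iff' g b e).2 (hc b hb e he))
  have hE'D : E' ⊆ D := by
    rintro _ ⟨e, he, rfl⟩
    exact CfsgLib.ThreeTransp.class_conj_mem hD g (hE he)
  have hE'c : ∀ u ∈ E', ∀ v ∈ E', Commute u v := by
    rintro _ ⟨u, hu, rfl⟩ _ ⟨v, hv, rfl⟩
    exact (commute_conj_iff' g u v).2 (hc u hu v hv)
  have hinj : Function.Injective fun e => g * e * g⁻¹ := fun e f h =>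
    mul_left_cancel (mul_right_cancel h)
  have hmax' : ∀ S : Set G, S ⊆ D → (∀ u ∈ S, ∀ v ∈ S, Commute u v) → S.ncard ≤ E'.ncard :=
    fun S h1 h2 => (hmax S h1 h2).trans (Set.ncard_image_of_injective _ hinj).ge
  obtain ⟨T, hT⟩ : ∃ T : Sylow 2 C, (closure E).subgroupOf C ≤ T :=
    ((isPGroup_closure_commuting hD hE hc).comap_of_injective C.subtype
      C.subtype_injective).exists_le_sylow
  obtain ⟨T', hT'⟩ : ∃ T' : Sylow 2 C, (closure E').subgroupOf C ≤ T' :=
    ((isPGroup_closure_commuting hD hE'D hE'c).comap_of_injective C.subtype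
      C.subtype_injective).exists_le_sylow
  have hTE := inter_eq_of_max hD hE hmax (P := (T : Subgroup C).map C.subtype)
    (T.isPGroup'.map C.subtype)
    (fun e he => ⟨⟨e, hEC (subset_closure he)⟩, hT (show (⟨e, _⟩ : C) ∈ (closure E).subgroupOf C
      from subset_closure he), rfl⟩)
  have hTE' := inter_eq_of_max hD hE'D hmax' (P := (T' : Subgroup C).map C.subtype)
    (T'.isPGroup'.map C.subtype)
    (fun e he => ⟨⟨e, hE'C (subset_closure he)⟩, hT' (show (⟨e, _⟩ : C) ∈ (closure E').subgroupOf C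
      from subset_closure he), rfl⟩)
  obtain ⟨h, hh⟩ := MulAction.exists_smul_eq C T' T
  have hmove : ∀ e ∈ E', (h : G) * e * (h : G)⁻¹ ∈ E := by
    intro e he
    rw [← hTE'] at he
    rw [← hTE]
    obtain ⟨heD, e', he', rfl⟩ := he
    refine ⟨CfsgLib.ThreeTransp.class_conj_mem hD _ heD, h * e' * h⁻¹, ?_, rfl⟩
    rw [SetLike.mem_coe, ← hh, Sylow.coe_subgroup_smul]
    exact smul_mem_pointwise_smul e' (MulAut.conj h) _ he'
  have himg : (fun e => ((h : G) * g) * e * ((h : G) * g)⁻¹) '' E = E :=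
    Set.eq_of_subset_of_ncard_le
      (by rintro _ ⟨e, he, rfl⟩; beta_reduce; rw [← conj_conj_eq]; exact hmove _ ⟨e, he, rfl⟩)
      (Set.ncard_image_of_injective _ fun e f h => mul_left_cancel (mul_right_cancel h)).ge
      (Set.toFinite _)
  have hhc : Commute (h : G) c := ((mem_centralizer_iff.1 h.2) c (Or.inl rfl)).symm
  have hhd : Commute (h : G) d := ((mem_centralizer_iff.1 h.2) d (Or.inr rfl)).symm
  refine ⟨(h : G) * g, mem_set_normalizer_iff.2 fun e => ?_, ?_, ?_⟩
  · refine ⟨fun he => (Set.ext_iff.1 himg _).1 ⟨e, he, rfl⟩, fun he => ?_⟩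
    obtain ⟨e', he', h'⟩ := (Set.ext_iff.1 himg _).2 he
    exact (mul_left_cancel (mul_right_cancel h') : e' = e) ▸ he'
  · rw [← conj_conj_eq, hga, conj_self_of_commute hhc]
  · rw [← conj_conj_eq, hgb, conj_self_of_commute hhd]

end CfsgLib.ThreeTrans
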