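import Cfsg.Agent.Lib.ThreeTrans.Basic

set_option autoImplicit false

/-! Two non-commuting 3-transpositions generate a symmetric group of degree 3. -/

namespace CfsgLib.ThreeTrans

/-- The action of the dihedral group of order 6 on three points. -/
def dihedralThreeToPerm : DihedralGroup 3 → Equiv.Perm (ZMod 3)
  | .r i => Equiv.addRight i
  | .sr i => (Equiv.neg (ZMod 3)).trans (Equiv.addRight i)

theorem nonempty_dihedralThree_equiv_perm :
    Nonempty (DihedralGroup 3 ≃* Equiv.Perm (Fin 3)) := by
  have h1 : ∀ x y : DihedralGroup 3,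
      dihedralThreeToPerm (x * y) = dihedralThreeToPerm y * dihedralThreeToPerm x := by decide
  let f : DihedralGroup 3 →* Equiv.Perm (ZMod 3) :=
    MonoidHom.mk' (fun x => (dihedralThreeToPerm x)⁻¹) fun x y => by
      simp only [h1, mul_inv_rev]
  have hinj : Function.Injective f := by
    intro x y hxy
    have h2 : ∀ x y : DihedralGroup 3,
        dihedralThreeToPerm x = dihedralThreeToPerm y → x = y := by decide
    exact h2 x y (inv_injective hxy)
  have hcard : Nat.card (DihedralGroup 3) = Nat.card (Equiv.Perm (ZMod 3)) := by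
    rw [DihedralGroup.nat_card, Nat.card_perm, Nat.card_zmod]; rfl
  exact ⟨MulEquiv.ofBijective f ((Nat.bijective_iff_injective_and_card _).2 ⟨hinj, hcard⟩)⟩

variable {G : Type*} [Group G] {E : Set G}

theorem closure_pair_equiv (hE : Cfsg.IsThreeTranspositionSet E) {d e : G} (hd : d ∈ E) (he : e ∈ E)
    (h : ¬ Commute d e) :
    Nonempty (Subgroup.closure ({d, e} : Set G) ≃* Equiv.Perm (Fin 3)) := by
  obtain ⟨q⟩ := nonempty_dihedralThree_equiv_perm
  have hd2 := mul_self hE hd
  have he2 := mul_self hE he
  have hp : (d * e) ^ 3 = 1 := cube_eq_one hE hd he h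
  have hflip : ∀ k : ℕ, (d * e) ^ k * d = d * ((d * e) ^ k)⁻¹ := by
    intro k
    have h1 : d * (d * e) * d⁻¹ = (d * e)⁻¹ := by
      rw [mul_inv_rev, inv_eq hE hd, inv_eq hE he, ← mul_assoc, hd2, one_mul]
    have h2 := conj_pow (i := k) (a := d) (b := d * e)
    rw [h1, inv_eq hE hd, inv_pow] at h2
    rw [h2, ← mul_assoc, ← mul_assoc, hd2, one_mul]
  let F : DihedralGroup 3 → G := fun x => match x with
    | .r i => (d * e) ^ i.val
    | .sr i => d * (d * e) ^ i.val
  have hadd : ∀ i j : ZMod 3, (d * e) ^ i.val * (d * e) ^ j.val = (d * e) ^ (i + j).val := by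
    intro i j
    rw [← pow_add, ZMod.val_add, ← pow_eq_pow_mod _ hp]
  have hneg : ∀ i : ZMod 3, ((d * e) ^ i.val)⁻¹ = (d * e) ^ (-i).val := by
    intro i
    apply inv_eq_of_mul_eq_one_right
    rw [hadd, add_neg_cancel, ZMod.val_zero, pow_zero]
  let f : DihedralGroup 3 →* G := MonoidHom.mk' F fun x y => by
    rcases x with i | i <;> rcases y with j | j
    · rw [DihedralGroup.r_mul_r]; exact (hadd i j).symm
    · rw [DihedralGroup.r_mul_sr]
      show d * (d * e) ^ (j - i).val = (d * e) ^ i.val * (d * (d * e) ^ j.val)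
      rw [← mul_assoc, hflip, mul_assoc, hneg, hadd, neg_add_eq_sub]
    · rw [DihedralGroup.sr_mul_r]
      show d * (d * e) ^ (i + j).val = d * (d * e) ^ i.val * (d * e) ^ j.val
      rw [mul_assoc, hadd]
    · rw [DihedralGroup.sr_mul_sr]
      show (d * e) ^ (j - i).val = d * (d * e) ^ i.val * (d * (d * e) ^ j.val)
      rw [← mul_assoc, mul_assoc d _ d, hflip, ← mul_assoc, hd2, one_mul, hneg, hadd,
        neg_add_eq_sub]
  have hinj : Function.Injective f := by
    rw [injective_iff_map_eq_one]
    have hne : d * e ≠ 1 := by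
      intro hh
      apply h
      rw [eq_inv_of_mul_eq_one_left hh, inv_eq hE he]
    have hord : orderOf (d * e) = 3 :=
      orderOf_eq_prime (p := 3) hp hne
    rintro (i | i) hi
    · have h3 : (d * e) ^ i.val = 1 := hi
      have h4 := orderOf_dvd_of_pow_eq_one h3
      rw [hord] at h4
      have h5 : i.val = 0 := Nat.eq_zero_of_dvd_of_lt h4 i.val_lt
      rw [(ZMod.val_eq_zero i).1 h5]; rfl
    · exfalso
      have h3 : d * (d * e) ^ i.val = 1 := hi
      apply h
      have h4 : (d * e) ^ i.val = d := by
        rw [eq_inv_of_mul_eq_one_right h3, inv_eq hE hd]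
      have h5 : Commute ((d * e) ^ i.val) (d * e) := (Commute.refl _).pow_left _
      rw [h4] at h5
      have h6 := congrArg (fun w => d * w) h5.eq
      simp only [← mul_assoc, hd2, one_mul] at h6
      exact h6
  have hrange : f.range = Subgroup.closure ({d, e} : Set G) := by
    apply le_antisymm
    · have hdm : d ∈ Subgroup.closure ({d, e} : Set G) := Subgroup.subset_closure (by simp)
      have hem : e ∈ Subgroup.closure ({d, e} : Set G) := Subgroup.subset_closure (by simp)
      rintro _ ⟨x, rfl⟩
      rcases x with i | i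
      · exact pow_mem (mul_mem hdm hem) _
      · exact mul_mem hdm (pow_mem (mul_mem hdm hem) _)
    · rw [Subgroup.closure_le]
      intro x hx
      rcases hx with h' | h'
      · refine ⟨.sr 0, ?_⟩
        rw [h']
        show d * (d * e) ^ (0 : ZMod 3).val = d
        simp
      · refine ⟨.sr 1, ?_⟩
        rw [Set.mem_singleton_iff.1 h']
        show d * (d * e) ^ (1 : ZMod 3).val = e
        rw [show (1 : ZMod 3).val = 1 from rfl, pow_one, ← mul_assoc, hd2, one_mul]
  exact ⟨((MulEquiv.subgroupCongr hrange).symm.trans (MonoidHom.ofInjective hinj).symm).trans q⟩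

end CfsgLib.ThreeTrans
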